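import Cfsg.Agent.Lib.GWDihedral.CaseOneData
import Cfsg.Agent.Lib.GWKlein.Rotating
import Cfsg.Agent.Lib.GWDihedral.LTwoField

/-!
# The last configuration of the dihedral case: the torus data from an overgroup

If the closure of the four-group in `H` is `PSL(2,q)` modulo the core and `D` lies in the core, then
`|PSL(2,q)| |D|` divides `|G|`; with `q = 2 ^ j |T| ± 1` this is `TorusData`.
-/

set_option autoImplicit false
set_option linter.unusedSectionVars false
set_option linter.style.haveILetI false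

universe u

namespace CfsgLib.GWDihedral

open Subgroup
open CfsgLib.GWKlein (core four closureIn)

variable {G : Type u} [Group G] [Finite G]

/-- `|PSL(2,q)| |core H|` divides `|G|`. -/
theorem card_psl_mul_core_dvd {t a : G} {H : Subgroup G} (hV : four t a ≤ H) {X : Type*} [Group X]
    (f : closureIn t a H →* X) (hf : Function.Surjective f) (hk : ∀ y, f y = 1 ↔ (y : G) ∈ core H) :
    Nat.card X * Nat.card ↥(core H) ∣ Nat.card G := by
  have hLH : (closureIn t a H) ≤ H := GWKlein.closureIn_le hV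
  have hn : (closureIn t a H) ≤ normalizer ((core H) : Set G) :=
    (hLH.trans Subgroup.le_normalizer).trans (GWKlein.le_normalizer_core H)
  haveI : ((core H).subgroupOf ((core H) ⊔ (closureIn t a H))).Normal :=
    (normal_subgroupOf_iff_le_normalizer le_sup_left).2 (sup_le Subgroup.le_normalizer hn)
  have e := relIndex_sup_left (H := (closureIn t a H).subgroupOf ((core H) ⊔ (closureIn t a H))) (K := (core H).subgroupOf ((core H) ⊔ (closureIn t a H)))
  rw [← subgroupOf_sup le_sup_left le_sup_right, subgroupOf_self, relIndex_top_right,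
    relIndex_subgroupOf le_sup_right] at e
  have hX : (core H).relIndex (closureIn t a H) = Nat.card X := by
    rw [relIndex, show (core H).subgroupOf (closureIn t a H) = f.ker from ext fun y => by
      rw [mem_subgroupOf, MonoidHom.mem_ker]; exact (hk y).symm]
    rw [index_ker, MonoidHom.range_eq_top.2 hf, card_top]
  rw [← hX, ← e, mul_comm, ← Nat.card_congr (subgroupOfEquivOfLe (le_sup_left : (core H) ≤ (core H) ⊔ (closureIn t a H))).toEquiv,
    card_mul_index]
  exact card_subgroup_dvd_card _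

/-- `TorusData` from an overgroup with socle `PSL(2,q)`, `D` in its core. -/
theorem torusData_of_socle {t a : G} {k r e f g : ℕ} {H T D : Subgroup G} (hV : four t a ≤ H)
    {F : Type} [Field F] [Fintype F] (hodd : Odd (Fintype.card F))
    (φ : closureIn t a H →* Matrix.ProjectiveSpecialLinearGroup (Fin 2) F)
    (hφ : Function.Surjective φ) (hk : ∀ y, φ y = 1 ↔ (y : G) ∈ core H) {j : ℕ} {ε : ℤ}
    (hε : ε = 1 ∨ ε = -1) (hj : 2 ≤ j) (hjn : j ≤ k + 2)
    (hj2 : 2 ^ (k + 2 - j) * f ≤ 2 * (r + 1)) (h8 : r = 3 ∨ r = 11 → k + 2 - j ≤ 2 ∧ Odd f)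
    (hq : (Fintype.card F : ℤ) = 2 ^ j * (Nat.card ↥T : ℤ) + ε)
    (hD : D ≤ core H) (hDg : Nat.card ↥D * g = r * e) : TorusData G k r e f g T := by
  refine ⟨Fintype.card F, j, Nat.card ↥D, ε, FiniteField.isPrimePow_card F, hε, hj, hjn, hj2, h8,
    hq, hDg, ?_⟩
  have h1 : (Nat.card (Matrix.ProjectiveSpecialLinearGroup (Fin 2) F) : ℤ) * Nat.card ↥D ∣
      (Nat.card G : ℤ) := by
    exact_mod_cast (mul_dvd_mul_left _ (card_dvd_of_le hD)).trans (card_psl_mul_core_dvd hV φ hφ hk)
  refine dvd_trans (dvd_of_eq ?_) h1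
  congr 1
  have h2 : 2 * Nat.card (Matrix.ProjectiveSpecialLinearGroup (Fin 2) F) =
      Fintype.card F * ((Fintype.card F - 1) * (Fintype.card F + 1)) := by
    rw [← Classical.card_sl2', Classical.Quat.two_mul_card_psl
      (LTwoAut.two_ne_zero_of_odd hodd)]
  have h3 : (2 : ℤ) * Nat.card (Matrix.ProjectiveSpecialLinearGroup (Fin 2) F) =
      (Fintype.card F : ℤ) * (((Fintype.card F : ℤ) - 1) * ((Fintype.card F : ℤ) + 1)) := by
    have h1F : 1 ≤ Fintype.card F := Fintype.card_pos
    rw [show ((Fintype.card F : ℤ) - 1) = ((Fintype.card F - 1 : ℕ) : ℤ) by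
      rw [Nat.cast_sub h1F]; norm_num]
    exact_mod_cast h2
  obtain ⟨b, rfl⟩ : ∃ b, j = b + 1 := ⟨j - 1, by omega⟩
  refine mul_left_cancel₀ (two_ne_zero' ℤ) ?_
  rw [h3, Nat.add_sub_cancel, hq]
  rcases hε with rfl | rfl <;> ring

end CfsgLib.GWDihedral
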