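import Cfsg.Agent.Lib.GWDihedral.Lin0
import Cfsg.Agent.Lib.GWDihedral.SplitRotate
import Cfsg.Agent.Lib.GWDihedral.PureFixed
import Cfsg.Agent.Lib.GWDihedral.LinValues
import Cfsg.Agent.Lib.GWDihedral.OverHyp

/-!
# A reflection without mixed prime

`Minimal.exists_rot_centralizing`: if `σ ^ 2 ^ (k - 1)` centralises the fixed part of a reflection
`u`, some rotation centralises it; for `2 ≤ k` this holds when no prime is mixed for `u`.
`Setting.rot_fixes_char`: a rotation fixes every linear character of the fixed part of the given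
exponent if `σ ^ 2 ^ (k - 1)` does.
`exists_extension`: without mixed prime a linear character of the fixed part extends to the odd part
trivially on the inverted elements.
-/

set_option autoImplicit false
set_option linter.unusedSectionVars false
set_option linter.style.haveILetI false

universe u

namespace CfsgLib.GWDihedral

open Subgroup CfsgLib.GWKlein CfsgLib.Involution CfsgLib.Involution.DihedralSylow
  CfsgLib.Components.Bender ModuleStep

variable {G : Type u} [Group G]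

/-- `χ` is multiplicative on `D`. -/
def IsLin (D : Subgroup G) (χ : G → ℂˣ) : Prop :=
  ∀ x ∈ D, ∀ y ∈ D, χ (x * y) = χ x * χ y

namespace IsLin

variable {D : Subgroup G} {χ : G → ℂˣ} (h : IsLin D χ)
include h

theorem map_one' : χ 1 = 1 := by
  simpa using h 1 (one_mem D) 1 (one_mem D)

theorem map_inv' {x : G} (hx : x ∈ D) : χ x⁻¹ = (χ x)⁻¹ := by
  refine eq_inv_of_mul_eq_one_right ?_
  rw [← h x hx x⁻¹ (inv_mem hx), mul_inv_cancel, h.map_one']

theorem map_pow' {x : G} (hx : x ∈ D) : ∀ n : ℕ, χ (x ^ n) = χ x ^ n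
  | 0 => by rw [pow_zero, pow_zero, h.map_one']
  | n + 1 => by rw [pow_succ, pow_succ, h _ (pow_mem hx n) x hx, map_pow' hx n]

theorem conj_eq {x y : G} (hx : x ∈ D) (hy : y ∈ D) : χ (x * y * x⁻¹) = χ y := by
  rw [h _ (mul_mem hx hy) _ (inv_mem hx), h x hx y hy, h.map_inv' hx, mul_comm (χ x),
    mul_inv_cancel_right]

/-- The composite with a conjugation preserving `D`. -/
theorem comp_conj {g : G} (hg : ∀ d ∈ D, g * d * g⁻¹ ∈ D) :
    IsLin D fun d => χ (g * d * g⁻¹) := fun x hx y hy => by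
  show χ (g * (x * y) * g⁻¹) = χ (g * x * g⁻¹) * χ (g * y * g⁻¹)
  rw [← h _ (hg x hx) _ (hg y hy), show g * (x * y) * g⁻¹ = g * x * g⁻¹ * (g * y * g⁻¹) by group]

end IsLin

/-- The element of order `4` of the cyclic subgroup whose square is the central involution. -/
def quarter (σ : G) (k : ℕ) : G := σ ^ ((2 : ℤ) ^ (k - 1))

/-- `w` lies in the odd part, is inverted by `u` and centralises every `O_r`. -/
structure Anti (t u w : G) : Prop where
  mem : w ∈ oddPart t
  inverted : u * w * u⁻¹ = w⁻¹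
  cent : ∀ r : ℕ, r.Prime → ∀ f ∈ coreIn r (oddPart t), Commute w f

variable [Finite G] {S : Sylow 2 G} {σ τ : G} {k : ℕ}

/-- A prime that is not mixed is centralised or inverted. -/
theorem pure_cases {t u : G} {r : ℕ} (hu : u * u = 1) (htu : Commute t u)
    (hr : ¬ MixedAt t u r) :
    (∀ y ∈ coreIn r (oddPart t), Commute u y) ∨
      ∀ y ∈ coreIn r (oddPart t), u * y * u⁻¹ = y⁻¹ := by
  by_cases hall : ∀ y ∈ coreIn r (oddPart t), Commute u y
  · exact Or.inl hall
  · refine Or.inr fun y hy => inverts_of_fixed_free hu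
      ((odd_card_core _).of_dvd_nat (card_dvd_of_le (coreIn_le r (oddPart t))))
      (mem_normalizer_coreIn_oddPart htu r) (fun x hx hxu => ?_) hy
    by_contra hx1
    exact hr ⟨hall, x, hx, hxu, hx1⟩

/-- Elements of the odd part centralising every `O_r` commute. -/
theorem commute_of_cent {t x y : G} (hx : x ∈ oddPart t)
    (hxc : ∀ r : ℕ, r.Prime → ∀ f ∈ coreIn r (oddPart t), Commute x f)
    (hyc : ∀ r : ℕ, r.Prime → ∀ f ∈ coreIn r (oddPart t), Commute y f) : Commute x y := by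
  have hle : fitIn (oddPart t) ≤ centralizer ({y} : Set G) := le_of_parts le_rfl fun r hr _ z hz =>
    mem_centralizer_singleton_iff.2 (hyc r hr z hz.1).symm.eq
  exact mem_centralizer_singleton_iff.1 (hle (mem_fitIn_of_odd (odd_card_core _) hx hxc))

namespace Anti

variable {t u w w' : G}

theorem mul (hu : u * u = 1) (hw : Anti t u w) (hw' : Anti t u w') : Anti t u (w * w') := by
  refine ⟨mul_mem hw.mem hw'.mem, ?_, fun r hr f hf => (hw.cent r hr f hf).mul_left
    (hw'.cent r hr f hf)⟩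
  rw [← conj_mul, hw.inverted, hw'.inverted, ← mul_inv_rev,
    (commute_of_cent hw.mem hw.cent hw'.cent).eq]

theorem inv (hw : Anti t u w) : Anti t u w⁻¹ :=
  ⟨inv_mem hw.mem, by rw [← conj_inv, hw.inverted], fun r hr f hf =>
    (hw.cent r hr f hf).inv_left⟩

theorem eq_one (hw : Anti t u w) (h : Commute u w) : w = 1 :=
  eq_one_of_inverted_of_commute (odd_of_oddPart hw.mem) hw.inverted h

/-- An element of `C(t)` carrying `u` to an element acting on the odd part as `u` preserves `Anti`. -/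
theorem conj {c : G} (hw : Anti t u w) (hct : Commute t c) (hcm : c * w * c⁻¹ ∈ oddPart t)
    (hcu : c⁻¹ * u * c * w * (c⁻¹ * u * c)⁻¹ = w⁻¹) : Anti t u (c * w * c⁻¹) := by
  refine ⟨hcm, ?_, fun r hr f hf => ?_⟩
  · rw [show u * (c * w * c⁻¹) * u⁻¹ = c * (c⁻¹ * u * c * w * (c⁻¹ * u * c)⁻¹) * c⁻¹ by group,
      hcu]
    group
  · have hf' : c⁻¹ * f * c ∈ coreIn r (oddPart t) := by
      have h1 := (mem_normalizer_iff.1 (mem_normalizer_coreIn_oddPart hct.inv_right r) f).1 hf
      rwa [inv_inv] at h1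
    have h2 := (hw.cent r hr _ hf').map (MulAut.conj c).toMonoidHom
    simpa only [MulEquiv.coe_toMonoidHom, MulAut.conj_apply,
      show c * (c⁻¹ * f * c) * c⁻¹ = f by group] using h2

end Anti

namespace Setting

variable (D : Setting G S σ τ k)
include D

theorem quarter_mem : quarter σ k ∈ (S : Subgroup G) := Subgroup.zpow_mem _ D.gen.amem _

theorem quarter_conj {u : G} (hu : Refl σ τ u) :
    quarter σ k * u * (quarter σ k)⁻¹ = invol σ k * u := by
  obtain ⟨j, rfl⟩ := hu
  obtain ⟨k', hk⟩ : ∃ k', k = k' + 1 := Nat.exists_eq_add_one.2 D.big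
  subst hk
  rw [quarter, Nat.add_sub_cancel, conj_rot D.gen, invol_eq, ← mul_assoc, ← zpow_add, pow_succ]
  congr 2; ring

theorem quarter_conj_invol : quarter σ k * invol σ k * (quarter σ k)⁻¹ = invol σ k := by
  rw [(D.commute_invol D.quarter_mem).symm.eq, mul_inv_cancel_right]

theorem quarter_two_pow : ∃ n : ℕ, quarter σ k ^ 2 ^ n = 1 := by
  refine ⟨k + 2, ?_⟩
  rw [← D.card_sylow]
  exact orderOf_dvd_iff_pow_eq_one.1 (Subgroup.orderOf_dvd_natCard _ D.quarter_mem)

theorem quarter_fixedPart {u e : G} (hu : Refl σ τ u) (he : e ∈ fixedPart (invol σ k) u) :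
    quarter σ k * e * (quarter σ k)⁻¹ ∈ fixedPart (invol σ k) u := by
  have h1 : quarter σ k * e * (quarter σ k)⁻¹ ∈
      (fixedPart (invol σ k) u).map (MulAut.conj (quarter σ k)).toMonoidHom := ⟨e, he, rfl⟩
  rwa [D.map_fixedPart (D.commute_invol D.quarter_mem), D.quarter_conj hu,
    D.fixedPart_invol_mul hu] at h1

theorem rot_fixedPart {u g e : G} (hu : Refl σ τ u) (hg : Rot (invol σ k) u g)
    (he : e ∈ fixedPart (invol σ k) u) : g * e * g⁻¹ ∈ fixedPart (invol σ k) u :=
  (mem_normalizer_iff.1 (D.rot_mem_normalizer hu hg) e).1 he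

theorem rot_inv_fixedPart {u g e : G} (hu : Refl σ τ u) (hg : Rot (invol σ k) u g)
    (he : e ∈ fixedPart (invol σ k) u) : g⁻¹ * e * g ∈ fixedPart (invol σ k) u := by
  have := (mem_normalizer_iff.1 (inv_mem (D.rot_mem_normalizer hu hg)) e).1 he
  rwa [inv_inv] at this

/-- An element centralising the four-group fixes the linear characters of the fixed part. -/
theorem char_centralizing {u c e : G} {χ : G → ℂˣ} (hu : Refl σ τ u)
    (hχ : IsLin (fixedPart (invol σ k) u) χ) (hct : c * invol σ k * c⁻¹ = invol σ k)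
    (hcu : c * u * c⁻¹ = u) (he : e ∈ fixedPart (invol σ k) u) : χ (c * e * c⁻¹) = χ e := by
  obtain ⟨e', he', v, hv, rfl⟩ := D.exists_fixedPart_mul hu
    (mul_inv_eq_iff_eq_mul.1 hct : c * invol σ k = invol σ k * c).symm
    (mul_inv_eq_iff_eq_mul.1 hcu : c * u = u * c).symm
  have hve : v * e * v⁻¹ = e := by
    rw [mem_centralizer_iff.1 (D.fixedPart_le_centralizer_four hu he) v hv, mul_inv_cancel_right]
  rw [show e' * v * e * (e' * v)⁻¹ = e' * (v * e * v⁻¹) * e'⁻¹ by group, hve, hχ.conj_eq he' he]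

theorem char_rot_cube {u g e : G} {χ : G → ℂˣ} (hu : Refl σ τ u)
    (hχ : IsLin (fixedPart (invol σ k) u) χ) (hg : Rot (invol σ k) u g)
    (he : e ∈ fixedPart (invol σ k) u) :
    χ (g * (g * (g * e * g⁻¹) * g⁻¹) * g⁻¹) = χ e := by
  have hgtu : g * (invol σ k * u) * g⁻¹ = invol σ k := by
    rw [← conj_mul, hg.1, hg.2, (D.refl_commute hu).eq, ← mul_assoc, D.refl_mul_self hu, one_mul]
  rw [show g * (g * (g * e * g⁻¹) * g⁻¹) * g⁻¹ = g * g * g * e * (g * g * g)⁻¹ by group]
  refine D.char_centralizing hu hχ ?_ ?_ he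
  · rw [show g * g * g * invol σ k * (g * g * g)⁻¹ = g * (g * (g * invol σ k * g⁻¹) * g⁻¹) * g⁻¹
      by group, hg.1, hg.2, hgtu]
  · rw [show g * g * g * u * (g * g * g)⁻¹ = g * (g * (g * u * g⁻¹) * g⁻¹) * g⁻¹ by group,
      hg.2, hgtu, hg.1]

theorem char_rot_twist {u g e : G} {χ : G → ℂˣ} (hu : Refl σ τ u)
    (hχ : IsLin (fixedPart (invol σ k) u) χ) (hg : Rot (invol σ k) u g)
    (he : e ∈ fixedPart (invol σ k) u) :
    χ (g * quarter σ k * g * (quarter σ k)⁻¹ * e *
      (g * quarter σ k * g * (quarter σ k)⁻¹)⁻¹) = χ e := by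
  have hgtu : g * (invol σ k * u) * g⁻¹ = invol σ k := by
    rw [← conj_mul, hg.1, hg.2, (D.refl_commute hu).eq, ← mul_assoc, D.refl_mul_self hu, one_mul]
  have hqt := D.quarter_conj_invol
  have hqu := D.quarter_conj hu
  have hqtu : quarter σ k * (invol σ k * u) * (quarter σ k)⁻¹ = u := by
    rw [← conj_mul, hqt, hqu, ← mul_assoc, D.invol_mul_self, one_mul]
  set q := quarter σ k with hq
  refine D.char_centralizing hu hχ ?_ ?_ he
  · rw [show g * q * g * q⁻¹ * invol σ k * (g * q * g * q⁻¹)⁻¹ =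
      g * (q * (g * (q⁻¹ * invol σ k * q) * g⁻¹) * q⁻¹) * g⁻¹ by group,
      show q⁻¹ * invol σ k * q = invol σ k by
        conv_lhs => rw [← hqt]
        group, hg.1, hqu, hgtu]
  · rw [show g * q * g * q⁻¹ * u * (g * q * g * q⁻¹)⁻¹ =
      g * (q * (g * (q⁻¹ * u * q) * g⁻¹) * q⁻¹) * g⁻¹ by group,
      show q⁻¹ * u * q = invol σ k * u by
        conv_lhs => rw [← hqtu]
        group, hgtu, hqt, hg.1]

/-- If `quarter σ k` fixes the linear characters of exponent `n` of the fixed part, so does a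
rotation. -/
theorem rot_fixes_char {u g : G} {n : ℕ} (hu : Refl σ τ u) (hg : Rot (invol σ k) u g)
    (hq : ∀ χ : G → ℂˣ, IsLin (fixedPart (invol σ k) u) χ →
      (∀ d ∈ fixedPart (invol σ k) u, χ d ^ n = 1) →
      ∀ d ∈ fixedPart (invol σ k) u, χ (quarter σ k * d * (quarter σ k)⁻¹) = χ d)
    {χ : G → ℂˣ} (hχ : IsLin (fixedPart (invol σ k) u) χ)
    (hn : ∀ d ∈ fixedPart (invol σ k) u, χ d ^ n = 1) {e : G}
    (he : e ∈ fixedPart (invol σ k) u) : χ (g * e * g⁻¹) = χ e := by
  set q := quarter σ k with hqdef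
  have hgD : ∀ d ∈ fixedPart (invol σ k) u, g * d * g⁻¹ ∈ fixedPart (invol σ k) u :=
    fun d hd => D.rot_fixedPart hu hg hd
  have h2 : ∀ d ∈ fixedPart (invol σ k) u, χ (g * (g * d * g⁻¹) * g⁻¹) = χ d := by
    intro d hd
    have h1 := hq _ (hχ.comp_conj hgD) (fun y hy => hn _ (hgD y hy)) _ (hgD d hd)
    rw [← h1, ← hq χ hχ hn d hd, ← D.char_rot_twist hu hχ hg (D.quarter_fixedPart hu hd)]
    exact congrArg χ (by rw [← hqdef]; group)
  rw [← h2 _ (hgD e he)] at *
  exact (D.char_rot_cube hu hχ hg he)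

/-- With `2 ≤ k` and no mixed prime, `quarter σ k` centralises the odd part. -/
theorem quarter_commute (hk : 2 ≤ k) {u : G} (hu : Refl σ τ u)
    (hm : ¬ Mixed (invol σ k) u) {y : G} (hy : y ∈ oddPart (invol σ k)) :
    Commute (quarter σ k) y := by
  obtain ⟨k', rfl⟩ : ∃ k', k = k' + 2 := ⟨k - 2, by omega⟩
  set t := invol σ (k' + 2) with ht
  set m := σ ^ ((2 : ℤ) ^ k') with hmdef
  set q := quarter σ (k' + 2) with hqdef
  have hmS : m ∈ (S : Subgroup G) := Subgroup.zpow_mem _ D.gen.amem _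
  have hq : q = m * u * m⁻¹ * u := by
    obtain ⟨j, rfl⟩ := id hu
    rw [hmdef, conj_rot D.gen, DihedralSylow.refl_mul D.gen, hqdef, quarter]
    congr 1
    rw [show k' + 2 - 1 = k' + 1 from rfl, pow_succ]
    ring
  have hqf : ∀ r : ℕ, r.Prime → ∀ f ∈ coreIn r (oddPart t), Commute q f := by
    intro r hr f hf
    rcases pure_cases (D.refl_mul_self hu) (D.refl_commute hu) fun h => hm ⟨r, hr, h⟩ with h | h
    · rw [hq]
      refine Commute.mul_left ?_ (h f hf)
      have hf' : m⁻¹ * f * m ∈ coreIn r (oddPart t) := by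
        have h1 := (mem_normalizer_iff.1
          (mem_normalizer_coreIn_oddPart (D.commute_invol hmS).inv_right r) f).1 hf
        rwa [inv_inv] at h1
      have h2 := (h _ hf').map (MulAut.conj m).toMonoidHom
      simpa only [MulEquiv.coe_toMonoidHom, MulAut.conj_apply,
        show m * (m⁻¹ * f * m) * m⁻¹ = f by group] using h2
    · have hf' : m⁻¹ * f⁻¹ * m ∈ coreIn r (oddPart t) := by
        have h1 := (mem_normalizer_iff.1
          (mem_normalizer_coreIn_oddPart (D.commute_invol hmS).inv_right r) f⁻¹).1 (inv_mem hf)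
        rwa [inv_inv] at h1
      refine mul_inv_eq_iff_eq_mul.1 ?_
      rw [hq, show m * u * m⁻¹ * u * f * (m * u * m⁻¹ * u)⁻¹ =
        m * (u * (m⁻¹ * (u * f * u⁻¹) * m) * u⁻¹) * m⁻¹ by group, h f hf, h _ hf']
      group
  have hqy : Commute t q := D.commute_invol D.quarter_mem
  set z := q * y * q⁻¹ * y⁻¹ with hz
  have hzO : z ∈ oddPart t := mul_mem (D.conj_mem_oddPart hqy hy) (inv_mem hy)
  have hzF : z ∈ fitIn (oddPart t) := by
    refine mem_fitIn_of_odd (odd_card_core _) hzO fun r hr f hf => mul_inv_eq_iff_eq_mul.1 ?_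
    have hyf : y⁻¹ * f * y ∈ coreIn r (oddPart t) := by
      have h1 := (mem_normalizer_iff.1 (le_normalizer_coreIn r _ (inv_mem hy)) f).1 hf
      rwa [inv_inv] at h1
    rw [hz, show q * y * q⁻¹ * y⁻¹ * f * (q * y * q⁻¹ * y⁻¹)⁻¹ =
      q * (y * (q⁻¹ * (y⁻¹ * f * y) * q) * y⁻¹) * q⁻¹ by group,
      (hqf r hr _ hyf).inv_left.eq, inv_mul_cancel_right,
      show y * (y⁻¹ * f * y) * y⁻¹ = f by group, (hqf r hr f hf).eq, mul_inv_cancel_right]
  have hqz : Commute q z := by
    have hle : fitIn (oddPart t) ≤ centralizer ({q} : Set G) :=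
      le_of_parts le_rfl fun r hr _ w hw =>
        mem_centralizer_singleton_iff.2 (hqf r hr w hw.1).symm.eq
    exact (mem_centralizer_singleton_iff.1 (hle hzF)).symm
  have hpow : ∀ n : ℕ, q ^ n * y * (q ^ n)⁻¹ = z ^ n * y := by
    intro n
    induction n with
    | zero => simp
    | succ n ih =>
      rw [pow_succ', show q * q ^ n * y * (q * q ^ n)⁻¹ = q * (q ^ n * y * (q ^ n)⁻¹) * q⁻¹ by group,
        ih, ← conj_mul, (hqz.pow_right n).eq, mul_inv_cancel_right, pow_succ,
        show q * y * q⁻¹ = z * y by rw [hz, inv_mul_cancel_right], ← mul_assoc]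
  obtain ⟨n, hn⟩ := D.quarter_two_pow
  have h1 := hpow (2 ^ n)
  rw [← hqdef] at hn
  rw [hn, one_mul, inv_one, mul_one, eq_comm, mul_eq_right] at h1
  have hz1 : z = 1 := orderOf_eq_one_iff.1 (Nat.eq_one_of_dvd_coprimes
    ((Nat.coprime_two_left.2 (odd_of_oddPart hzO)).pow_left n)
    (orderOf_dvd_of_pow_eq_one h1) dvd_rfl)
  exact mul_inv_eq_iff_eq_mul.1 (mul_inv_eq_one.1 (hz ▸ hz1))

variable {u : G} (hu : Refl σ τ u) (hm : ¬ Mixed (invol σ k) u)
include hu hm

/-- Without mixed prime every element of the odd part is an `Anti` element times a fixed one. -/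
theorem exists_anti_mul {y : G} (hy : y ∈ oddPart (invol σ k)) :
    ∃ w, Anti (invol σ k) u w ∧ w⁻¹ * y ∈ fixedPart (invol σ k) u := by
  set t := invol σ k with ht
  have h2 := D.refl_mul_self hu
  have htu := D.refl_commute hu
  set c := u * y * u⁻¹ * y⁻¹ with hc
  have hcO : c ∈ oddPart t := mul_mem (D.conj_mem_oddPart htu hy) (inv_mem hy)
  have hci : u * c * u⁻¹ = c⁻¹ := by
    rw [hc, show u * (u * y * u⁻¹ * y⁻¹) * u⁻¹ = u * u * y * u⁻¹ * y⁻¹ * u⁻¹ by group, h2,
      one_mul, mul_inv_rev, mul_inv_rev, mul_inv_rev, inv_inv, inv_inv, inv_eq_of_mul_eq_one_right h2]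
    group
  have hcA : Anti t u c := ⟨hcO, hci, fun r hr f hf =>
    commute_coreIn_of_not_mixedAt h2 htu (fun h => hm ⟨r, hr, h⟩) hcO hci hf⟩
  obtain ⟨i, hi⟩ := odd_of_oddPart hcO
  have hw : ∀ n : ℕ, Anti t u (c ^ n) := fun n => ⟨pow_mem hcO n, by
    rw [← conj_pow, hci, inv_pow], fun r hr f hf => (hcA.cent r hr f hf).pow_left n⟩
  refine ⟨(c ^ (i + 1))⁻¹, (hw _).inv, mem_fixedPart_iff.2
    ⟨mul_mem (inv_mem (hw _).inv.mem) hy, mul_inv_eq_iff_eq_mul.1 ?_⟩⟩
  have e2 : c ^ (i + 1) * c ^ (i + 1) = c := by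
    rw [← pow_add, show i + 1 + (i + 1) = orderOf c + 1 by omega, pow_succ, pow_orderOf_eq_one,
      one_mul]
  have e1 : u * y * u⁻¹ = c * y := by rw [hc, inv_mul_cancel_right]
  rw [inv_inv, ← conj_mul, e1, (hw (i + 1)).inverted]
  rw [← mul_assoc, inv_mul_eq_iff_eq_mul.2 e2.symm]

/-- Uniqueness of the decomposition. -/
theorem anti_unique {w w' y : G} (hw : Anti (invol σ k) u w) (hw' : Anti (invol σ k) u w')
    (h : w⁻¹ * y ∈ fixedPart (invol σ k) u) (h' : w'⁻¹ * y ∈ fixedPart (invol σ k) u) : w = w' := by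
  have h1 := mul_mem h' (inv_mem h)
  rw [show w'⁻¹ * y * (w⁻¹ * y)⁻¹ = w'⁻¹ * w by group] at h1
  exact (inv_mul_eq_one.1 ((hw'.inv.mul (D.refl_mul_self hu) hw).eq_one
    (mem_fixedPart_iff.1 h1).2)).symm

/-- A linear character of the fixed part extends trivially on the `Anti` elements. -/
theorem exists_extension {χ : G → ℂˣ} (hχ : IsLin (fixedPart (invol σ k) u) χ) :
    ∃ μ : ↥(oddPart (invol σ k)) →* ℂˣ, ∀ y ∈ oddPart (invol σ k), ∀ w,
      Anti (invol σ k) u w → w⁻¹ * y ∈ fixedPart (invol σ k) u → linVal μ y = χ (w⁻¹ * y) := by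
  choose w hw hwD using fun y : ↥(oddPart (invol σ k)) => D.exists_anti_mul hu hm y.2
  have key : ∀ (y : ↥(oddPart (invol σ k))) (v : G), Anti (invol σ k) u v →
      v⁻¹ * (y : G) ∈ fixedPart (invol σ k) u → w y = v :=
    fun y v hv hvD => D.anti_unique hu hm (hw y) hv (hwD y) hvD
  refine ⟨{ toFun := fun y => χ ((w y)⁻¹ * (y : G)), map_one' := ?_, map_mul' := fun y z => ?_ },
    fun y hy v hv hvD => ?_⟩
  · show χ ((w 1)⁻¹ * ((1 : ↥(oddPart (invol σ k))) : G)) = 1
    rw [key 1 1 ⟨one_mem _, by simp, fun r hr f hf => Commute.one_left f⟩ (by simp [one_mem]),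
      OneMemClass.coe_one, inv_one, one_mul, hχ.map_one']
  · show χ ((w (y * z))⁻¹ * ((y * z : ↥(oddPart (invol σ k))) : G)) = _
    obtain ⟨he, hue⟩ := mem_fixedPart_iff.1 (hwD y)
    set e := (w y)⁻¹ * (y : G) with hedef
    have hte := commute_of_mem_oddPart he
    have hA : Anti (invol σ k) u (e * w z * e⁻¹) := by
      refine (hw z).conj hte (D.conj_mem_oddPart hte (hw z).mem) ?_
      rw [show e⁻¹ * u * e = u by rw [mul_assoc, hue.eq, inv_mul_cancel_left]]
      exact (hw z).inverted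
    have e1 : (w y * (e * w z * e⁻¹))⁻¹ * ((y : G) * (z : G)) =
        e * ((w z)⁻¹ * (z : G)) := by rw [hedef]; group
    rw [key (y * z) _ ((hw y).mul (D.refl_mul_self hu) hA)
      (by rw [Subgroup.coe_mul, e1]; exact mul_mem (hwD y) (hwD z)), Subgroup.coe_mul, e1,
      hχ e (hwD y) _ (hwD z)]
  · rw [linVal_mem _ hy]
    show χ ((w ⟨y, hy⟩)⁻¹ * y) = _
    rw [key ⟨y, hy⟩ v hv hvD]

end Setting

/-- If `quarter σ k` centralises the fixed part, a rotation centralises it. -/
theorem Minimal.exists_rot_centralizing (M : Minimal G S σ τ k) {u : G} (hu : Refl σ τ u)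
    (hq : ∀ d ∈ fixedPart (invol σ k) u, Commute (quarter σ k) d) :
    ∃ g, Rot (invol σ k) u g ∧ ∀ d ∈ fixedPart (invol σ k) u, Commute g d := by
  have D := M.setting
  obtain ⟨g, hg⟩ := M.exists_rot_refl hu
  set K := centralizer (fixedPart (invol σ k) u : Set G) with hK
  have hmem : ∀ {x : G}, (∀ d ∈ fixedPart (invol σ k) u, Commute x d) → x ∈ K := fun {x} h =>
    mem_centralizer_iff.2 fun d hd => (h d hd).symm.eq
  have hgK : g ∈ normalizer (K : Set G) := by
    refine mem_normalizer_fintype fun x hx => hmem fun d hd => ?_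
    have h1 : Commute x (g⁻¹ * d * g) :=
      (mem_centralizer_iff.1 hx _ (D.rot_inv_fixedPart hu hg hd)).symm
    have h2 := h1.map (MulAut.conj g).toMonoidHom
    simpa only [MulEquiv.coe_toMonoidHom, MulAut.conj_apply,
      show g * (g⁻¹ * d * g) * g⁻¹ = d by group] using h2
  obtain ⟨h, hh, hhr⟩ := exists_rot_mem (D.fours_refl hu)
    (hmem fun d hd => commute_of_mem_oddPart (fixedPart_le _ _ hd))
    (hmem fun d hd => (mem_fixedPart_iff.1 hd).2) (hmem hq) D.quarter_conj_invol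
    (D.quarter_conj hu) D.quarter_two_pow hg hgK
  exact ⟨h, hhr, fun d hd => (mem_centralizer_iff.1 hh d hd).symm⟩

/-- With `2 ≤ k` and no mixed prime some rotation centralises the fixed part. -/
theorem Minimal.exists_rot_centralizing_of_two_le (M : Minimal G S σ τ k) (hk : 2 ≤ k) {u : G}
    (hu : Refl σ τ u) (hm : ¬ Mixed (invol σ k) u) :
    ∃ g, Rot (invol σ k) u g ∧ ∀ d ∈ fixedPart (invol σ k) u, Commute g d :=
  M.exists_rot_centralizing hu fun _ hd =>
    M.setting.quarter_commute hk hu hm (fixedPart_le _ _ hd)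

end CfsgLib.GWDihedral
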